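import Groth.Agent.MonoFibre.HomogComp
import Groth.Agent.DimLiftLib.Basic
import Groth.Agent.UnivOpenAtLib.Basic
import Groth.Agent.LocDimBC.Comp
import Groth.Agent.DimFormulaLib.Misc
import Groth.Agent.FibreDimEt.Top

/-!
Fibres over the algebraic closure of the residue field, and maximal points of orbit maps.
-/

set_option autoImplicit false
set_option backward.isDefEq.respectTransparency false
set_option backward.isDefEq.respectTransparency.types false
set_option maxHeartbeats 800000
set_option linter.style.haveILetI false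

universe u

open CategoryTheory MonoidalCategory CartesianMonoidalCategory MonObj GrpObj AlgebraicGeometry Limits

noncomputable section

namespace Groth.Agent.QSecTransLib

open MonoFibre

variable {S : Scheme.{u}}

/-- The algebraic closure of the residue field. -/
abbrev clos (s : S) : Type u := AlgebraicClosure (S.residueField s)

/-- The map to the spectrum of the residue field. -/
def closMap (s : S) : Spec (CommRingCat.of (clos s)) ⟶ Spec (S.residueField s) :=
  Spec.map (CommRingCat.ofHom (algebraMap (S.residueField s) (clos s)))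

instance closMap_flat (s : S) : Flat (closMap s) :=
  flat_to_field (Field.toIsField (S.residueField s)) _

instance closMap_integral (s : S) : IsIntegralHom (closMap s) :=
  IsIntegralHom.SpecMap_iff.2 (fun r => Algebra.IsIntegral.isIntegral r)

instance closMap_surjective (s : S) : Surjective (closMap s) :=
  ⟨fun _ => ⟨(IsLocalRing.closedPoint (clos s) : PrimeSpectrum (clos s)),
    Subsingleton.elim (α := PrimeSpectrum (S.residueField s)) _ _⟩⟩

/-- The geometric point over `s`. -/
def geomPt (s : S) : Spec (CommRingCat.of (clos s)) ⟶ S := closMap s ≫ S.fromSpecResidueField s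

/-- From the geometric fibre to the fibre. -/
def toFib {X : Scheme.{u}} (f : X ⟶ S) (s : S) : pullback f (geomPt s) ⟶ f.fiber s :=
  pullback.lift (pullback.fst _ _) (pullback.snd _ _ ≫ closMap s) (by rw [Category.assoc]; exact pullback.condition)

theorem toFib_ι {X : Scheme.{u}} (f : X ⟶ S) (s : S) : toFib f s ≫ f.fiberι s = pullback.fst f (geomPt s) :=
  pullback.lift_fst _ _ _

theorem toFib_isPullback {X : Scheme.{u}} (f : X ⟶ S) (s : S) :
    IsPullback (toFib f s) (pullback.snd f (geomPt s)) (pullback.snd f (S.fromSpecResidueField s)) (closMap s) := by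
  refine IsPullback.of_right (h₁₂ := pullback.fst f (S.fromSpecResidueField s)) ?_
    (pullback.lift_snd _ _ _) (IsPullback.of_hasPullback f (S.fromSpecResidueField s))
  rw [show toFib f s ≫ pullback.fst f (S.fromSpecResidueField s) = pullback.fst f (geomPt s) from toFib_ι f s]
  exact IsPullback.of_hasPullback f (geomPt s)

instance toFib_flat {X : Scheme.{u}} (f : X ⟶ S) (s : S) : Flat (toFib f s) :=
  MorphismProperty.of_isPullback (toFib_isPullback f s).flip (closMap_flat s)

instance toFib_integral {X : Scheme.{u}} (f : X ⟶ S) (s : S) : IsIntegralHom (toFib f s) :=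
  MorphismProperty.of_isPullback (toFib_isPullback f s).flip (closMap_integral s)

instance toFib_surjective {X : Scheme.{u}} (f : X ⟶ S) (s : S) : Surjective (toFib f s) :=
  MorphismProperty.of_isPullback (toFib_isPullback f s).flip (closMap_surjective s)

/-- The image of a closed set without maximal points under a flat integral morphism contains no maximal point. -/
theorem notMem_image_of_isMaxPt {T T' : Scheme.{u}} (q : T ⟶ T') [IsIntegralHom q] {C : Set T}
    (hC : ∀ θ, IsMaxPt θ → θ ∉ C) {g₀ : T'} (hg₀ : IsMaxPt g₀) : g₀ ∉ q '' C := by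
  rintro ⟨c, hc, rfl⟩
  obtain ⟨θ, hθ, hθmax⟩ := exists_isMaxPt c
  have e : θ = c := DimLiftLib.eq_of_specializes q hθ (hg₀ _ (hθ.map q.continuous))
  exact hC θ hθmax (e ▸ hc)

/-- In a locally noetherian scheme, a point with a unique maximal generalisation has an open neighbourhood of
specialisations of it. -/
theorem exists_open_specializations {T : Scheme.{u}} [IsLocallyNoetherian T] {ξ x : T}
    (huniq : ∀ v, IsMaxPt v → v ⤳ x → v = ξ) :
    ∃ O : T.Opens, x ∈ O ∧ ∀ d ∈ O, ξ ⤳ d := by
  obtain ⟨A, hA, hxA, -⟩ := exists_isAffineOpen_mem_and_subset (x := x) (U := (⊤ : T.Opens)) trivial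
  haveI : IsAffine (A : Scheme.{u}) := hA
  haveI : IsNoetherian (A : Scheme.{u}) := {}
  have hfin := setFinite_isMaxPt ↥(A : Scheme.{u})
  let C : Set T := ⋃ v ∈ {v : ↥(A : Scheme.{u}) | IsMaxPt v ∧ (v : ↥A).1 ≠ ξ}, closure {(v : ↥A).1}
  have hC : IsClosed C := (hfin.subset fun v hv => hv.1).isClosed_biUnion fun _ _ => isClosed_closure
  refine ⟨⟨(A : Set T) ∩ Cᶜ, A.2.inter hC.isOpen_compl⟩, ⟨hxA, fun h => ?_⟩, fun d hd => ?_⟩
  · simp only [C, Set.mem_iUnion] at h
    obtain ⟨v, ⟨hvmax, hvne⟩, hv⟩ := h
    refine hvne (huniq _ (fun w hw => ?_) (specializes_iff_mem_closure.2 hv))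
    have hwA : w ∈ A := hw.mem_open A.2 (v : ↥A).2
    exact congrArg Subtype.val
      (hvmax ⟨w, hwA⟩ (A.ι.isOpenEmbedding.isInducing.specializes_iff.1 hw))
  · obtain ⟨v, hv, hvmax⟩ := exists_isMaxPt (T := ↥(A : Scheme.{u})) ⟨d, hd.1⟩
    have hvd : (v : ↥A).1 ⤳ d := hv.map A.ι.continuous
    by_contra h
    refine hd.2 ?_
    simp only [C, Set.mem_iUnion]
    exact ⟨v, ⟨hvmax, fun e => h (e ▸ hvd)⟩, hvd.mem_closure⟩

/-- An open set dense in a locally noetherian scheme contains the maximal points. -/
theorem isMaxPt_mem_of_dense {T : Scheme.{u}} [IsLocallyNoetherian T] {U : Set T} (hU : IsOpen U) (hd : Dense U)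
    {ξ : T} (hξ : IsMaxPt ξ) : ξ ∈ U := by
  obtain ⟨O, hξO, hO⟩ := exists_open_specializations (x := ξ) fun v _ hv => hξ v hv
  obtain ⟨d, hdO, hdU⟩ := hd.inter_open_nonempty _ O.2 ⟨ξ, hξO⟩
  exact (hO d hdO).mem_open hU hdU

/-- Over an algebraically closed field the orbit map of a rational point sends maximal points to maximal points. -/
theorem orbit_isMaxPt {K : Type u} [Field K] [IsAlgClosed K] {G X : Over (Spec (CommRingCat.of K))} [GrpObj G]
    [LocallyOfFiniteType G.hom] (a : AlgGrp.Action G X) (hΦ : Surjective (lift a.act (snd G X)).left)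
    (x : 𝟙_ (Over (Spec (CommRingCat.of K))) ⟶ X) {θ : G.left} (hθ : IsMaxPt θ) :
    IsMaxPt ((a.orbitMap x).left θ) := by
  let pt : ↥(Spec (CommRingCat.of K)) := IsLocalRing.closedPoint K
  obtain ⟨h, hh⟩ := exists_ratPt_mem (G := G) isClosed_closure ⟨θ, subset_closure (Set.mem_singleton θ)⟩
  have hθh : θ ⤳ h.left pt := specializes_iff_mem_closure.2 hh
  obtain ⟨θ₀, hθ₀, hθ₀max⟩ := exists_isMaxPt (GrpSchLib.unitPt G)
  have hu : (translG h).left (GrpSchLib.unitPt G) = h.left pt := by
    rw [← GrpSchLib.one_apply (𝟙_ (Over (Spec (CommRingCat.of K)))) pt, ← Scheme.Hom.comp_apply, ← Over.comp_left,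
      comp_translG, toUnit_unique (toUnit _) (𝟙 _), Category.id_comp, _root_.mul_one]
  have h0 : (translG h).left θ₀ = θ :=
    maxPt_unique_grp (isMaxPt_map (translGHomeo h) hθ₀max) hθ (hu ▸ hθ₀.map (translG h).left.continuous) hθh
  rw [← h0, ← Scheme.Hom.comp_apply, ← Over.comp_left, ← orbitMap_translX, Over.comp_left, Scheme.Hom.comp_apply]
  exact isMaxPt_map (translXHomeo a h) (orbit_theta_isMaxPt a hΦ x hθ₀ hθ₀max)

/-- Universal openness at the points of an open on which the morphism is universally open. -/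
theorem isUnivOpenAt_of_opens {X : Scheme.{u}} (f : X ⟶ S) (W : X.Opens) [UniversallyOpen (W.ι ≫ f)] {z : X}
    (hz : z ∈ W) : EGA43.IsUnivOpenAt f z := by
  have h : EGA43.IsUnivOpenAt (W.ι ≫ f) ⟨z, hz⟩ := by
    intro Y' k w _ U hU
    haveI : UniversallyOpen (pullback.snd (W.ι ≫ f) k) := MorphismProperty.pullback_snd _ _ inferInstance
    exact (pullback.snd (W.ι ≫ f) k).isOpenMap.image_mem_nhds hU
  exact UnivOpenAtLib.univOpenAt_of_comp h

/-- The local dimension of a group over a field at a point is the dimension of its component. -/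
theorem localDim_eq_component {K : Type u} [Field K] {G : Over (Spec (CommRingCat.of K))} [GrpObj G]
    [LocallyOfFiniteType G.hom] {ξ g : G.left} (hξ : IsMaxPt ξ) (hg : ξ ⤳ g) :
    FlatMor.localDim ↥G.left g = topologicalKrullDim ↥(closure ({ξ} : Set G.left)) := by
  haveI : IsLocallyNoetherian G.left := LocallyOfFiniteType.isLocallyNoetherian G.hom
  have hop : IsOpen (closure ({ξ} : Set G.left)) := isOpen_iff_forall_mem_open.2 fun d hd => by
    obtain ⟨O, hdO, hO⟩ := exists_open_specializations (x := d)
      fun v hv hvd => maxPt_unique_grp hv hξ hvd (specializes_iff_mem_closure.2 hd)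
    exact ⟨O, fun e he => (hO e he).mem_closure, O.2, hdO⟩
  refine le_antisymm ?_ ?_
  · exact iInf_le_of_le ⟨⟨_, hop⟩, hg.mem_closure⟩ le_rfl
  · rw [LocDimBC.dim_component G.hom ξ hξ]
    exact DimFormulaLib.localDim_le_of_specializes hg

/-- A nonempty closed subset of a scheme locally of finite type over an algebraically closed field has a rational
point. -/
theorem exists_rat {K : Type u} [Field K] [IsAlgClosed K] {A : Over (Spec (CommRingCat.of K))}
    [LocallyOfFiniteType A.hom] {Z : Set A.left} (hZ : IsClosed Z) (hne : Z.Nonempty) :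
    ∃ r : 𝟙_ (Over (Spec (CommRingCat.of K))) ⟶ A, r.left (IsLocalRing.closedPoint K) ∈ Z := by
  haveI : JacobsonSpace A.left := LocallyOfFiniteType.jacobsonSpace A.hom
  obtain ⟨z, hzZ, hz⟩ := nonempty_inter_closedPoints (X := A.left) hne hZ.isLocallyClosed
  refine ⟨Over.homMk (pointOfClosedPoint A.hom z (mem_closedPoints_iff.1 hz)) (pointOfClosedPoint_comp _ _ _), ?_⟩
  show pointOfClosedPoint A.hom z (mem_closedPoints_iff.1 hz) (IsLocalRing.closedPoint K) ∈ Z
  exact (pointOfClosedPoint_apply A.hom z (mem_closedPoints_iff.1 hz) _).symm ▸ hzZ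

end Groth.Agent.QSecTransLib
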